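import Mathlib
import Cfsg.Agent.Lib.Helper99.GUSP.Defs2
import Cfsg.Agent.Lib.Helper94.Symp

/-!
# S5976 (team project GUSP): package [DERB2]

The derangement for `4 ∣ i` from the commutant lemma [COMM] and the test element [TESTB].
-/

set_option autoImplicit false

namespace Cfsg.Agent.Lib.Helper79.GUSP

open Matrix Polynomial Cfsg.Agent.Lib.Helper99.GUSP

universe u

section aux

variable {F : Type u} [Field F]

/-- `(2 : F) ≠ 0` in a finite field of odd order. -/
theorem derb_two_ne_zero [Fintype F] (hq : Odd (Fintype.card F)) : (2 : F) ≠ 0 := by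
  apply Ring.two_ne_zero
  intro h
  rw [FiniteField.even_card_iff_char_two] at h
  rw [Nat.odd_iff] at hq
  omega

/-- Polynomials in `X` commute with what commutes with `X`. -/
theorem derb_comm_aeval {A : Type*} [Ring A] [Algebra F A] (X b : A) (h : X * b = b * X)
    (p : F[X]) : aeval X p * b = b * aeval X p := by
  induction p using Polynomial.induction_on' with
  | add p q hp hq => rw [map_add, add_mul, mul_add, hp, hq]
  | monomial n a =>
    rw [aeval_monomial, Algebra.algebraMap_eq_smul_one, smul_mul_assoc, one_mul, smul_mul_assoc,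
      mul_smul_comm]
    congr 1
    exact (Commute.pow_left h n).eq

/-- The adjoint of a polynomial in `x`, given an adjoint `x'` of `x`. -/
theorem derb_adj (d : ℕ) (x x' : Matrix (SI d) (SI d) F)
    (hx : ∀ u v, Cfsg.sympForm d F (x *ᵥ u) v = Cfsg.sympForm d F u (x' *ᵥ v)) (g : F[X])
    (u v : SI d → F) :
    Cfsg.sympForm d F ((aeval x g) *ᵥ u) v = Cfsg.sympForm d F u ((aeval x' g) *ᵥ v) := by
  have hpow : ∀ n : ℕ, ∀ u v,
      Cfsg.sympForm d F ((x ^ n) *ᵥ u) v = Cfsg.sympForm d F u ((x' ^ n) *ᵥ v) := by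
    intro n
    induction n with
    | zero => intro u v; simp
    | succ n ih =>
      intro u v
      rw [pow_succ, pow_succ', ← Matrix.mulVec_mulVec, ih, hx, Matrix.mulVec_mulVec]
  induction g using Polynomial.induction_on' with
  | add p q hp hq =>
    rw [map_add, map_add, Matrix.add_mulVec, Matrix.add_mulVec, Helper94.sf_add_left,
      Helper94.sf_add_right, hp, hq]
  | monomial n a =>
    rw [aeval_monomial, aeval_monomial, Algebra.algebraMap_eq_smul_one, smul_mul_assoc,
      smul_mul_assoc, one_mul, one_mul, Matrix.smul_mulVec, Matrix.smul_mulVec,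
      Helper94.sf_smul_left, Helper94.sf_smul_right, hpow]

/-- Frobenius: `g(X^(q^h)) = g^(q^h)`. -/
theorem derb_expand [Fintype F] (g : F[X]) (h : ℕ) :
    expand F (Fintype.card F ^ h) g = g ^ (Fintype.card F ^ h) := by
  induction h with
  | zero => simp
  | succ h ih =>
    rw [pow_succ, Polynomial.expand_mul, FiniteField.expand_card, map_pow, ih, ← pow_mul]

end aux

/-- [DERB2] -/
theorem pkgDerB2 : PkgDerB2.{u} := by
  intro hComm hTestB F _ _ p _ _ hodd d r hr hr2 hrp h4 hle
  classical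
  have hr' : Fact r.Prime := ⟨hr⟩
  obtain ⟨i, hi⟩ : ∃ i, i = orderOf ((Fintype.card F : ℕ) : ZMod r) := ⟨_, rfl⟩
  rw [← hi] at h4 hle
  have heven : Even i := by
    obtain ⟨c, hc⟩ := h4
    exact ⟨2 * c, by omega⟩
  obtain ⟨x, π, hx, hxr, hns, hirr, hdeg, hfin, hnd⟩ :=
    hTestB hodd d r hr hr2 hrp (by rw [← hi]; exact heven) (by rw [← hi]; exact hle)
  rw [← hi] at hdeg
  refine ⟨x, hx, hxr, hns, ?_⟩
  intro a α ha hα hPM
  have h2F : (2 : F) ≠ 0 := derb_two_ne_zero hodd
  have ha0 : a ≠ 0 := by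
    rintro rfl
    exact ha ⟨0, by simp⟩
  have hipos : 0 < i := by
    rw [← hdeg]
    exact hirr.natDegree_pos
  -- only the commuting alternative matters
  have hcomm : (x : Matrix (SI d) (SI d) F) * α = α * (x : Matrix (SI d) (SI d) F) := by
    rcases hPM with h | h
    · exact h
    · have h2 : Commute ((x : Matrix (SI d) (SI d) F) * (x : Matrix (SI d) (SI d) F)) α := by
        show (x : Matrix (SI d) (SI d) F) * (x : Matrix (SI d) (SI d) F) * α
          = α * ((x : Matrix (SI d) (SI d) F) * (x : Matrix (SI d) (SI d) F))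
        rw [mul_assoc, h, mul_neg, ← mul_assoc, h, neg_mul, neg_neg, mul_assoc]
      obtain ⟨k, hk⟩ : ∃ k, r + 1 = 2 * k := by
        rcases hr.eq_two_or_odd with h' | h'
        · exact absurd h' hr2
        · exact ⟨(r + 1) / 2, by omega⟩
      have hxk : ((x : Matrix (SI d) (SI d) F) * (x : Matrix (SI d) (SI d) F)) ^ k
          = (x : Matrix (SI d) (SI d) F) := by
        rw [← pow_two, ← pow_mul, ← hk, pow_succ, hxr, one_mul]
      have h3 := (Commute.pow_left h2 k).eq
      rw [hxk] at h3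
      exact h3
  -- the exponent `N = q ^ (i / 2)` with `x ^ (N + 1) = 1`
  obtain ⟨h', hh'⟩ := h4
  obtain ⟨N, hN⟩ : ∃ N, N = Fintype.card F ^ (2 * h') := ⟨_, rfl⟩
  have hrN : r ∣ N + 1 := by
    have h1 : (((Fintype.card F : ℕ) : ZMod r) ^ (2 * h')) * (((Fintype.card F : ℕ) : ZMod r) ^ (2 * h'))
        = 1 := by
      rw [← pow_add]
      have : 2 * h' + 2 * h' = i := by omega
      rw [this, hi]
      exact pow_orderOf_eq_one _
    have h2 : ((Fintype.card F : ℕ) : ZMod r) ^ (2 * h') ≠ 1 := by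
      apply pow_ne_one_of_lt_orderOf (by omega)
      rw [← hi]
      omega
    have h3 : ((Fintype.card F : ℕ) : ZMod r) ^ (2 * h') = -1 := by
      rcases mul_self_eq_one_iff.1 h1 with h | h
      · exact absurd h h2
      · exact h
    rw [← ZMod.natCast_eq_zero_iff, hN]
    push_cast
    rw [h3]
    ring
  obtain ⟨c, hc⟩ := hrN
  have hxN1 : (x : Matrix (SI d) (SI d) F) ^ (N + 1) = 1 := by
    rw [hc, pow_mul, hxr, one_pow]
  have hxN' : (x : Matrix (SI d) (SI d) F) * (x : Matrix (SI d) (SI d) F) ^ N = 1 := by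
    rw [← pow_succ']
    exact hxN1
  have hx' := (Helper94.mem_spGL_iff d x).1 hx
  have hadj1 : ∀ u v, Cfsg.sympForm d F ((x : Matrix (SI d) (SI d) F) *ᵥ u) v
      = Cfsg.sympForm d F u (((x : Matrix (SI d) (SI d) F) ^ N) *ᵥ v) := by
    intro u v
    have h1 := hx' u (((x : Matrix (SI d) (SI d) F) ^ N) *ᵥ v)
    rw [Matrix.mulVec_mulVec, hxN', Matrix.one_mulVec] at h1
    exact h1
  have hadj : ∀ (g : F[X]) (u v : SI d → F),
      Cfsg.sympForm d F ((aeval (x : Matrix (SI d) (SI d) F) g) *ᵥ u) v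
        = Cfsg.sympForm d F u (((aeval (x : Matrix (SI d) (SI d) F) g) ^ N) *ᵥ v) := by
    intro g u v
    rw [derb_adj d _ _ hadj1 g u v, ← expand_aeval, hN, derb_expand, map_pow]
  -- `α ^ N = α`
  have hαN : α ^ N = α := by
    obtain ⟨M1, hM1⟩ := Nat.sub_one_dvd_pow_sub_one (Fintype.card F ^ 2) h'
    rw [← pow_mul, ← hN] at hM1
    obtain ⟨k1, hk1⟩ := hodd
    have hq1 : Fintype.card F ^ 2 - 1 = (Fintype.card F - 1) * (2 * (k1 + 1)) := by
      rw [hk1, Nat.add_sub_cancel]
      have : (2 * k1 + 1) ^ 2 = 2 * k1 * (2 * (k1 + 1)) + 1 := by ring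
      rw [this]
      exact Nat.add_sub_cancel _ _
    have hNpos : 1 ≤ N := by
      rw [hN]
      exact Nat.one_le_pow _ _ Fintype.card_pos
    rw [hq1] at hM1
    have hN2 : N = 1 + 2 * ((Fintype.card F - 1) * ((k1 + 1) * M1)) := by
      have : N - 1 = 2 * ((Fintype.card F - 1) * ((k1 + 1) * M1)) := by
        rw [hM1]
        ring
      omega
    rw [hN2, pow_add, pow_one, pow_mul, pow_two, hα.1, _root_.smul_pow, one_pow, pow_mul,
      FiniteField.pow_card_sub_one_eq_one a ha0, one_pow, one_smul, mul_one]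
  -- the subspace `W = ker π(x)`
  obtain ⟨W, hW⟩ : ∃ W : Submodule F (SI d → F),
      W = LinearMap.ker (Matrix.toLin' (aeval (x : Matrix (SI d) (SI d) F) π)) := ⟨_, rfl⟩
  rw [← hW] at hfin hnd
  have hmemW : ∀ w, w ∈ W ↔ (aeval (x : Matrix (SI d) (SI d) F) π) *ᵥ w = 0 := by
    intro w
    rw [hW, LinearMap.mem_ker, Matrix.toLin'_apply]
  have hPx := derb_comm_aeval (x : Matrix (SI d) (SI d) F) (x : Matrix (SI d) (SI d) F) rfl π
  have hPα := derb_comm_aeval (x : Matrix (SI d) (SI d) F) α hcomm π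
  have hxW' : ∀ w ∈ W, (x : Matrix (SI d) (SI d) F) *ᵥ w ∈ W := by
    intro w hw
    rw [hmemW] at hw ⊢
    rw [Matrix.mulVec_mulVec, hPx, ← Matrix.mulVec_mulVec, hw, Matrix.mulVec_zero]
  have hαW' : ∀ w ∈ W, α *ᵥ w ∈ W := by
    intro w hw
    rw [hmemW] at hw ⊢
    rw [Matrix.mulVec_mulVec, hPα, ← Matrix.mulVec_mulVec, hw, Matrix.mulVec_zero]
  have hxW : ∀ w ∈ W, Matrix.toLin' (x : Matrix (SI d) (SI d) F) w ∈ W := by
    intro w hw
    rw [Matrix.toLin'_apply]
    exact hxW' w hw
  have hαW : ∀ w ∈ W, Matrix.toLin' α w ∈ W := by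
    intro w hw
    rw [Matrix.toLin'_apply]
    exact hαW' w hw
  obtain ⟨y, hy⟩ : ∃ y : W →ₗ[F] W,
      y = (Matrix.toLin' (x : Matrix (SI d) (SI d) F)).restrict hxW := ⟨_, rfl⟩
  obtain ⟨T, hT⟩ : ∃ T : W →ₗ[F] W, T = (Matrix.toLin' α).restrict hαW := ⟨_, rfl⟩
  have hyapp : ∀ w : W, ((y w : W) : SI d → F)
      = (x : Matrix (SI d) (SI d) F) *ᵥ (w : SI d → F) := by
    intro w
    rw [hy, LinearMap.coe_restrict_apply, Matrix.toLin'_apply]
  have hTapp : ∀ w : W, ((T w : W) : SI d → F) = α *ᵥ (w : SI d → F) := by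
    intro w
    rw [hT, LinearMap.coe_restrict_apply, Matrix.toLin'_apply]
  have hypow : ∀ (n : ℕ) (w : W), (((y ^ n) w : W) : SI d → F)
      = ((x : Matrix (SI d) (SI d) F) ^ n) *ᵥ (w : SI d → F) := by
    intro n
    induction n with
    | zero => intro w; simp
    | succ n ih =>
      intro w
      rw [pow_succ, Module.End.mul_apply, ih, hyapp, pow_succ, Matrix.mulVec_mulVec]
  have haev : ∀ (g : F[X]) (w : W), (((aeval y g) w : W) : SI d → F)
      = (aeval (x : Matrix (SI d) (SI d) F) g) *ᵥ (w : SI d → F) := by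
    intro g
    induction g using Polynomial.induction_on' with
    | add p q hp hq =>
      intro w
      rw [map_add, map_add, LinearMap.add_apply, Submodule.coe_add, hp, hq, Matrix.add_mulVec]
    | monomial n a =>
      intro w
      rw [aeval_monomial, aeval_monomial, Algebra.algebraMap_eq_smul_one,
        Algebra.algebraMap_eq_smul_one, smul_mul_assoc, smul_mul_assoc, one_mul, one_mul,
        LinearMap.smul_apply, Submodule.coe_smul, Matrix.smul_mulVec, hypow]
  -- the commutant lemma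
  obtain ⟨g, hg⟩ := hComm (F := F) (V := W) y T π hirr
    (by
      apply LinearMap.ext
      intro w
      apply Subtype.ext
      rw [haev, LinearMap.zero_apply, Submodule.coe_zero]
      exact (hmemW _).1 w.2)
    hfin.symm
    (by
      apply LinearMap.ext
      intro w
      apply Subtype.ext
      rw [LinearMap.comp_apply, LinearMap.comp_apply, hyapp, hTapp, hTapp, hyapp,
        Matrix.mulVec_mulVec, Matrix.mulVec_mulVec, hcomm])
  have hgW : ∀ w ∈ W, α *ᵥ w = (aeval (x : Matrix (SI d) (SI d) F) g) *ᵥ w := by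
    intro w hw
    have h1 := hTapp ⟨w, hw⟩
    rw [hg, haev] at h1
    exact h1.symm
  have hApow : ∀ (n : ℕ) (w : SI d → F), w ∈ W →
      ((aeval (x : Matrix (SI d) (SI d) F) g) ^ n) *ᵥ w = (α ^ n) *ᵥ w := by
    intro n
    induction n with
    | zero => intro w _; simp
    | succ n ih =>
      intro w hw
      rw [pow_succ, pow_succ, ← Matrix.mulVec_mulVec, ← Matrix.mulVec_mulVec, ← hgW w hw]
      exact ih _ (hαW' w hw)
  -- `α` is both self-adjoint and skew-adjoint on `W`
  have hzero : ∀ w ∈ W, ∀ w' ∈ W, Cfsg.sympForm d F w (α *ᵥ w') = 0 := by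
    intro w hw w' hw'
    have h1 : Cfsg.sympForm d F (α *ᵥ w) w' = Cfsg.sympForm d F w (α *ᵥ w') := by
      rw [hgW w hw, hadj g w w', hApow N w' hw', hαN]
    have h2 := hα.2 w w'
    rw [h1] at h2
    have h3 : (2 : F) * Cfsg.sympForm d F w (α *ᵥ w') = 0 := by
      linear_combination h2
    rcases mul_eq_zero.1 h3 with h | h
    · exact absurd h h2F
    · exact h
  have hWbot : W = ⊥ := by
    rw [Submodule.eq_bot_iff]
    intro w' hw'
    have h1 : α *ᵥ w' = 0 := by
      apply hnd _ (hαW' w' hw')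
      intro w hw
      rw [Helper94.sf_swap, hzero w hw w' hw', neg_zero]
    have h2 : (α * α) *ᵥ w' = 0 := by
      rw [← Matrix.mulVec_mulVec, h1, Matrix.mulVec_zero]
    rw [hα.1, Matrix.smul_mulVec, Matrix.one_mulVec] at h2
    rcases smul_eq_zero.1 h2 with h | h
    · exact absurd h ha0
    · exact h
  rw [hWbot, finrank_bot] at hfin
  have := hirr.natDegree_pos
  omega

end Cfsg.Agent.Lib.Helper79.GUSP
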